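import Mathlib

/-!
Finite type descends from thickenings with finitely generated nilpotent ideal.
-/

set_option autoImplicit false
universe u
open CategoryTheory AlgebraicGeometry

namespace Groth.Agent.ThickFTLib

theorem finiteType_of_quotient {A B C : Type u} [CommRing A] [CommRing B] [CommRing C] [Algebra A B] [Algebra A C]
    (π : B →ₐ[A] C) (hπ : Function.Surjective π) (hnil : IsNilpotent (RingHom.ker π.toRingHom))
    (hfg : (RingHom.ker π.toRingHom).FG) [Algebra.FiniteType A C] : Algebra.FiniteType A B := by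
  classical
  obtain ⟨s, hs⟩ := Algebra.FiniteType.out (R := A) (A := C)
  obtain ⟨G, hG⟩ := hfg
  obtain ⟨n, hn⟩ := hnil
  let lift := fun c => (hπ c).choose
  let T : Finset B := s.image lift ∪ G
  refine ⟨T, ?_⟩
  let S := Algebra.adjoin A (T : Set B)
  have hsur : ∀ b : B, ∃ a ∈ S, b - a ∈ RingHom.ker π.toRingHom := by
    intro b
    have h1 : S.map π = ⊤ := by
      refine top_le_iff.1 (hs ▸ Algebra.adjoin_le ?_)
      intro c hc
      exact ⟨lift c, Algebra.subset_adjoin (by simp only [T, Finset.coe_union, Finset.coe_image]; exact Or.inl ⟨c, hc, rfl⟩), (hπ c).choose_spec⟩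
    obtain ⟨a, ha, hab⟩ := (h1.ge trivial : π b ∈ S.map π)
    exact ⟨a, ha, by
      rw [RingHom.mem_ker, map_sub, sub_eq_zero]
      exact hab.symm⟩
  have key : ∀ k : ℕ, ∀ b : B, ∃ a ∈ S, b - a ∈ RingHom.ker π.toRingHom ^ k := by
    intro k
    induction k with
    | zero => exact fun b => ⟨0, S.zero_mem, by rw [pow_zero, Ideal.one_eq_top]; trivial⟩
    | succ k ih =>
      have h2 : ∀ x ∈ RingHom.ker π.toRingHom, ∃ a ∈ S, x - a ∈ RingHom.ker π.toRingHom ^ (k + 1) := by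
        intro x hx
        rw [← hG] at hx
        induction hx using Submodule.span_induction with
        | mem g hg => exact ⟨g, Algebra.subset_adjoin (by simp only [T, Finset.coe_union]; exact Or.inr hg), by rw [sub_self]; exact zero_mem _⟩
        | zero => exact ⟨0, S.zero_mem, by rw [sub_zero]; exact zero_mem _⟩
        | add x y _ _ hx hy =>
          obtain ⟨a, ha, hxa⟩ := hx
          obtain ⟨c, hc, hyc⟩ := hy
          exact ⟨a + c, S.add_mem ha hc, by rw [show x + y - (a + c) = (x - a) + (y - c) by ring]; exact add_mem hxa hyc⟩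
        | smul r g hg hx =>
          obtain ⟨a, ha, hxa⟩ := hx
          obtain ⟨r', hr', hrr⟩ := ih r
          refine ⟨r' * a, S.mul_mem hr' ha, ?_⟩
          rw [smul_eq_mul, show r * g - r' * a = (r - r') * g + r' * (g - a) by ring]
          refine add_mem ?_ (Ideal.mul_mem_left _ _ hxa)
          rw [pow_succ]
          exact Ideal.mul_mem_mul hrr (hG.le hg)
      intro b
      obtain ⟨a, ha, hba⟩ := hsur b
      obtain ⟨c, hc, hc'⟩ := h2 _ hba
      exact ⟨a + c, S.add_mem ha hc, by rw [show b - (a + c) = b - a - c by ring]; exact hc'⟩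
  refine Algebra.eq_top_iff.2 fun b => ?_
  obtain ⟨a, ha, hb⟩ := key n b
  rw [hn, Ideal.zero_eq_bot, Ideal.mem_bot, sub_eq_zero] at hb
  exact hb ▸ ha

theorem locallyOfFiniteType_of_thickening {X Y Y₀ : Scheme.{u}} (F : Y ⟶ X) (i : Y₀ ⟶ Y) [IsClosedImmersion i]
    [LocallyOfFiniteType (i ≫ F)] (hnil : ∀ U : Y.affineOpens, IsNilpotent (i.ker.ideal U))
    (hfg : ∀ (U : X.affineOpens) (V : Y.affineOpens), (V : Y.Opens) ≤ F ⁻¹ᵁ (U : X.Opens) → (i.ker.ideal V).FG) :
    LocallyOfFiniteType F := by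
  refine ⟨fun {U} hU {V} hV e => ?_⟩
  letI : Algebra Γ(X, U) Γ(Y, V) := (F.appLE U V e).hom.toAlgebra
  have e' : i ⁻¹ᵁ V ≤ (i ≫ F) ⁻¹ᵁ U := i.preimage_mono e
  have h1 : ((i ≫ F).appLE U (i ⁻¹ᵁ V) e').hom.FiniteType := (i ≫ F).finiteType_appLE hU (hV.preimage i) e'
  have h2 : (i ≫ F).appLE U (i ⁻¹ᵁ V) e' = F.appLE U V e ≫ i.app V := by
    rw [i.app_eq_appLE, Scheme.Hom.appLE_comp_appLE]
  rw [h2] at h1
  letI : Algebra Γ(X, U) Γ(Y₀, i ⁻¹ᵁ V) := (F.appLE U V e ≫ i.app V).hom.toAlgebra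
  let π : Γ(Y, V) →ₐ[Γ(X, U)] Γ(Y₀, i ⁻¹ᵁ V) := { (i.app V).hom with commutes' := fun _ => rfl }
  haveI : Algebra.FiniteType Γ(X, U) Γ(Y₀, i ⁻¹ᵁ V) := h1
  have hk : RingHom.ker π.toRingHom = i.ker.ideal ⟨V, hV⟩ := (i.ker_apply ⟨V, hV⟩).symm
  exact finiteType_of_quotient π (i.app_surjective V hV) (hk ▸ hnil ⟨V, hV⟩) (hk ▸ hfg ⟨U, hU⟩ ⟨V, hV⟩ e)

end Groth.Agent.ThickFTLib
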